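import Mathlib

open PrimeSpectrum

namespace Groth.Agent.H5.Pure

universe u

variable {A : Type u} [CommRing A]

lemma pure_of_forall_exists_eq_mul (I : Ideal A) (h : ∀ x ∈ I, ∃ y ∈ I, x = x * y) : I.Pure := by
  refine Ideal.Pure.of_inf_eq_mul I fun J _ => le_antisymm ?_ Ideal.mul_le_inf
  rintro x ⟨hxI, hxJ⟩
  obtain ⟨y, hy, hxy⟩ := h x hxI
  rw [hxy, mul_comm x y]
  exact Ideal.mul_mem_mul hy hxJ

/-- The ideal `{x | x ∈ xJ}`. -/
def selfMulIdeal (J : Ideal A) : Ideal A where
  carrier := {x | ∃ y ∈ J, x = x * y}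
  zero_mem' := ⟨0, J.zero_mem, by simp⟩
  add_mem' := by
    rintro x y ⟨f, hf, hxf⟩ ⟨g, hg, hyg⟩
    refine ⟨f + g - f * g, J.sub_mem (J.add_mem hf hg) (J.mul_mem_right _ hf), ?_⟩
    have e1 : x * f = x := hxf.symm
    have e2 : y * g = y := hyg.symm
    calc x + y = x * f + y * g := by rw [e1, e2]
      _ = (x + y) * (f + g - f * g) := by
        have : (x + y) * (f + g - f * g) =
            x * f + (x - x * f) * g + y * g + (y - y * g) * f := by ring
        rw [this, e1, e2]; ring
  smul_mem' := by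
    rintro a x ⟨f, hf, hxf⟩
    refine ⟨f, hf, ?_⟩
    rw [smul_eq_mul, mul_assoc, ← hxf]

lemma mem_selfMulIdeal {J : Ideal A} {x : A} : x ∈ selfMulIdeal J ↔ ∃ y ∈ J, x = x * y := Iff.rfl

lemma selfMulIdeal_le (J : Ideal A) : selfMulIdeal J ≤ J := by
  rintro x ⟨y, hy, hxy⟩
  rw [hxy]
  exact J.mul_mem_left _ hy

lemma zeroLocus_selfMulIdeal (J : Ideal A)
    (hg : StableUnderGeneralization (zeroLocus (J : Set A))) :
    zeroLocus (selfMulIdeal J : Set A) = zeroLocus (J : Set A) := by
  apply le_antisymm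
  · intro p hp
    rw [mem_zeroLocus, SetLike.coe_subset_coe] at hp ⊢
    -- the multiplicative set (A ∖ p)(1 + J)
    let S : Submonoid A :=
      { carrier := {z | ∃ s ∉ p.asIdeal, ∃ j ∈ J, z = s * (1 + j)}
        one_mem' := ⟨1, p.asIdeal.one_notMem, 0, J.zero_mem, by simp⟩
        mul_mem' := by
          rintro a b ⟨s, hs, j, hj, rfl⟩ ⟨s', hs', j', hj', rfl⟩
          refine ⟨s * s', ?_, j + j' + j * j', ?_, by ring⟩
          · intro h
            rcases p.2.mem_or_mem h with h | h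
            · exact hs h
            · exact hs' h
          · exact J.add_mem (J.add_mem hj hj') (J.mul_mem_left _ hj') }
    have h0 : Disjoint ((⊥ : Ideal A) : Set A) (S : Set A) := by
      rw [Set.disjoint_left]
      rintro z hz ⟨s, hs, j, hj, e⟩
      have hz0 : z = 0 := hz
      apply hs
      apply hp
      refine ⟨-j, J.neg_mem hj, ?_⟩
      have : s * (1 + j) = 0 := by rw [← e, hz0]
      linear_combination this
    obtain ⟨q, hq, -, hqS⟩ := Ideal.exists_le_prime_disjoint ⊥ S h0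
    rw [Set.disjoint_left] at hqS
    have hqp : q ≤ p.asIdeal := by
      intro z hz
      by_contra hzp
      exact hqS hz ⟨z, hzp, 0, J.zero_mem, by simp⟩
    have hqJ : q ⊔ J ≠ ⊤ := by
      intro htop
      have h1 : (1 : A) ∈ q ⊔ J := by rw [htop]; trivial
      obtain ⟨a, ha, j, hj, e⟩ := Submodule.mem_sup.mp h1
      refine hqS ha ⟨1, p.asIdeal.one_notMem, -j, J.neg_mem hj, ?_⟩
      linear_combination e
    obtain ⟨m, hm, hle⟩ := Ideal.exists_le_maximal _ hqJ
    have hmJ : (⟨m, hm.isPrime⟩ : PrimeSpectrum A) ∈ zeroLocus (J : Set A) := by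
      rw [mem_zeroLocus, SetLike.coe_subset_coe]
      exact le_sup_right.trans hle
    have hqm : (⟨q, hq⟩ : PrimeSpectrum A) ⤳ ⟨m, hm.isPrime⟩ := by
      rw [← PrimeSpectrum.le_iff_specializes]
      exact le_sup_left.trans hle
    have hqJ' := hg hqm hmJ
    rw [mem_zeroLocus, SetLike.coe_subset_coe] at hqJ'
    exact hqJ'.trans hqp
  · exact zeroLocus_anti_mono (selfMulIdeal_le J)

lemma pure_selfMulIdeal (J : Ideal A)
    (hg : StableUnderGeneralization (zeroLocus (J : Set A))) : (selfMulIdeal J).Pure := by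
  apply pure_of_forall_exists_eq_mul
  rintro x ⟨y, hy, hxy⟩
  have hrad : J ≤ (selfMulIdeal J).radical := by
    rw [← vanishingIdeal_zeroLocus_eq_radical, zeroLocus_selfMulIdeal J hg,
      vanishingIdeal_zeroLocus_eq_radical]
    exact Ideal.le_radical
  obtain ⟨n, hn⟩ := hrad hy
  refine ⟨y ^ n, hn, ?_⟩
  clear hn
  induction n with
  | zero => simp
  | succ k ih => rw [pow_succ, ← mul_assoc, ← ih, ← hxy]

theorem exists_pure_zeroLocus_eq (T : Set (PrimeSpectrum A)) (hT : IsClosed T)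
    (hg : StableUnderGeneralization T) :
    ∃ I : Ideal A, I.Pure ∧ zeroLocus (I : Set A) = T := by
  have hJ : zeroLocus (vanishingIdeal T : Set A) = T := by
    rw [zeroLocus_vanishingIdeal_eq_closure, hT.closure_eq]
  have hg' : StableUnderGeneralization (zeroLocus (vanishingIdeal T : Set A)) := by
    rw [hJ]; exact hg
  refine ⟨selfMulIdeal (vanishingIdeal T), pure_selfMulIdeal _ hg', ?_⟩
  rw [zeroLocus_selfMulIdeal _ hg', hJ]

/-- Purity is preserved by localization maps. -/
lemma pure_map {B : Type u} [CommRing B] [Algebra A B] (M : Submonoid A) [IsLocalization M B]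
    (I : Ideal A) [I.Pure] : (I.map (algebraMap A B)).Pure := by
  apply pure_of_forall_exists_eq_mul
  intro x hx
  obtain ⟨⟨⟨a, ha⟩, s⟩, e⟩ := (IsLocalization.mem_map_algebraMap_iff M B).mp hx
  obtain ⟨y, hy, hay⟩ := Ideal.exists_eq_mul_of_pure ha
  refine ⟨algebraMap A B y, Ideal.mem_map_of_mem _ hy, ?_⟩
  have hs : IsUnit (algebraMap A B s) := IsLocalization.map_units B s
  apply hs.mul_left_injective
  simp only at e ⊢
  rw [e, mul_right_comm, e, ← map_mul, ← hay]

end Groth.Agent.H5.Pure
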