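import Mathlib
import Groth.Agent.Lib.Helper5.Pure.A

open CategoryTheory AlgebraicGeometry TopologicalSpace

namespace Groth.Agent.H5.Pure

universe u

variable {X : Scheme.{u}}

/-- affine opens are affine (with the right type). -/
lemma hA (U : X.affineOpens) : IsAffineOpen U.1 := U.2

lemma exists_pure_ideal (Z : Set X) (hZ : IsClosed Z) (hg : StableUnderGeneralization Z)
    (U : X.affineOpens) :
    ∃ I : Ideal Γ(X, U), I.Pure ∧
      PrimeSpectrum.zeroLocus (I : Set Γ(X, U)) = (hA U).fromSpec ⁻¹' Z :=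
  exists_pure_zeroLocus_eq _ (hZ.preimage (hA U).fromSpec.continuous)
    (hg.preimage (hA U).fromSpec.continuous)

/-- The pure ideal on `U` cutting out `Z ∩ U`. -/
noncomputable def pureIdeal (Z : Set X) (hZ : IsClosed Z) (hg : StableUnderGeneralization Z)
    (U : X.affineOpens) : Ideal Γ(X, U) :=
  (exists_pure_ideal Z hZ hg U).choose

lemma pureIdeal_pure (Z : Set X) (hZ : IsClosed Z) (hg : StableUnderGeneralization Z)
    (U : X.affineOpens) : (pureIdeal Z hZ hg U).Pure :=
  (exists_pure_ideal Z hZ hg U).choose_spec.1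

lemma zeroLocus_pureIdeal (Z : Set X) (hZ : IsClosed Z) (hg : StableUnderGeneralization Z)
    (U : X.affineOpens) :
    PrimeSpectrum.zeroLocus (pureIdeal Z hZ hg U : Set Γ(X, U)) = (hA U).fromSpec ⁻¹' Z :=
  (exists_pure_ideal Z hZ hg U).choose_spec.2

lemma pure_map' {A B : Type u} [CommRing A] [CommRing B] (φ : A →+* B) (M : Submonoid A)
    (h : @IsLocalization _ _ M B _ φ.toAlgebra) (I : Ideal A) [I.Pure] : (I.map φ).Pure := by
  letI := φ.toAlgebra
  exact pure_map M I

lemma pureIdeal_map_aux (Z : Set X) (hZ : IsClosed Z) (hg : StableUnderGeneralization Z)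
    (U V : X.affineOpens) (h : V.1 ≤ U.1) (M : Submonoid Γ(X, U))
    (hloc : @IsLocalization _ _ M Γ(X, V) _ (X.presheaf.map (homOfLE h).op).hom.toAlgebra) :
    (pureIdeal Z hZ hg U).map (X.presheaf.map (homOfLE h).op).hom = pureIdeal Z hZ hg V := by
  haveI := pureIdeal_pure Z hZ hg U
  haveI := pureIdeal_pure Z hZ hg V
  haveI : ((pureIdeal Z hZ hg U).map (X.presheaf.map (homOfLE h).op).hom).Pure :=
    pure_map' _ M hloc _
  rw [← Ideal.zeroLocus_inj_of_pure]
  rw [zeroLocus_pureIdeal, Ideal.map, PrimeSpectrum.zeroLocus_span]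
  rw [← PrimeSpectrum.preimage_comap_zeroLocus, zeroLocus_pureIdeal]
  have := (hA U).map_fromSpec (hA V) (homOfLE h).op
  ext p
  change (hA U).fromSpec (PrimeSpectrum.comap _ p) ∈ Z ↔ (hA V).fromSpec p ∈ Z
  have e : (hA V).fromSpec p = (hA U).fromSpec (PrimeSpectrum.comap
      (X.presheaf.map (homOfLE h).op).hom p) := by
    rw [← this]
    rfl
  rw [e]

lemma pureIdeal_map (Z : Set X) (hZ : IsClosed Z) (hg : StableUnderGeneralization Z)
    (U : X.affineOpens) (f : Γ(X, U)) :
    (pureIdeal Z hZ hg U).map (X.presheaf.map (homOfLE <| X.basicOpen_le f).op).hom =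
      pureIdeal Z hZ hg (X.affineBasicOpen f) :=
  pureIdeal_map_aux Z hZ hg U (X.affineBasicOpen f) (X.basicOpen_le f) (Submonoid.powers f)
    (U.2.isLocalization_basicOpen f)

/-- The ideal sheaf of a closed, generalization-stable subset. -/
noncomputable def pureIdealSheaf (Z : Set X) (hZ : IsClosed Z)
    (hg : StableUnderGeneralization Z) : X.IdealSheafData where
  ideal := pureIdeal Z hZ hg
  map_ideal_basicOpen := pureIdeal_map Z hZ hg

lemma coe_support_pureIdealSheaf (Z : Set X) (hZ : IsClosed Z)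
    (hg : StableUnderGeneralization Z) :
    ((pureIdealSheaf Z hZ hg).support : Set X) = Z := by
  ext x
  obtain ⟨U, hxU⟩ : ∃ U : X.affineOpens, x ∈ U.1 := by
    have : x ∈ (⊤ : X.Opens) := trivial
    rw [← iSup_affineOpens_eq_top X] at this
    exact Opens.mem_iSup.mp this
  rw [SetLike.mem_coe, Scheme.IdealSheafData.mem_support_iff_of_mem hxU]
  obtain ⟨p, rfl⟩ : ∃ p, (hA U).fromSpec p = x := by
    have : x ∈ Set.range (hA U).fromSpec := by rw [(hA U).range_fromSpec]; exact hxU
    exact this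
  change p ∈ (hA U).fromSpec ⁻¹' X.zeroLocus _ ↔ p ∈ (hA U).fromSpec ⁻¹' Z
  rw [(hA U).fromSpec_preimage_zeroLocus]
  change p ∈ PrimeSpectrum.zeroLocus (pureIdeal Z hZ hg U : Set Γ(X, U)) ↔ _
  rw [zeroLocus_pureIdeal]
  exact Iff.rfl

end Groth.Agent.H5.Pure
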