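import Mathlib
import Groth.Agent.Lib.Helper5.Pure.B

open CategoryTheory AlgebraicGeometry TopologicalSpace

namespace Groth.Agent.H5.Pure

universe u

variable {X : Scheme.{u}}

/-- restriction between affine opens is flat. -/
lemma flat_res {Y : Scheme.{u}} {V W : Y.Opens} (hV : IsAffineOpen V) (hW : IsAffineOpen W)
    (e : V ≤ W) : (Y.presheaf.map (homOfLE e).op).hom.Flat := by
  have h : Flat (𝟙 Y) := inferInstance
  have := HasRingHomProperty.appLE (P := @Flat) (f := 𝟙 Y) h ⟨W, hW⟩ ⟨V, hV⟩ e
  have e2 : (𝟙 Y : Y ⟶ Y).appLE W V e = Y.presheaf.map (homOfLE e).op := by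
    simp only [Scheme.Hom.appLE, Scheme.Hom.id_app]
    exact Category.id_comp _
  rwa [e2] at this

lemma quotient_flat_iff {A : Type u} [CommRing A] (I : Ideal A) :
    (Ideal.Quotient.mk I).Flat ↔ I.Pure := by
  rw [← Ideal.Quotient.algebraMap_eq, RingHom.flat_algebraMap_iff]

lemma app_flat_iff (I : X.IdealSheafData) (U : X.affineOpens) :
    (I.subschemeι.app U).hom.Flat ↔ (I.ideal U).Pure := by
  rw [I.subschemeι_app U, CommRingCat.hom_comp,
    RingHom.Flat.comp_iff_of_bijective_left, CommRingCat.hom_ofHom, quotient_flat_iff]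
  exact (ConcreteCategory.isIso_iff_bijective (I.subschemeObjIso U).inv).mp inferInstance

theorem flat_subschemeι_iff (I : X.IdealSheafData) :
    Flat I.subschemeι ↔ ∀ U : X.affineOpens, (I.ideal U).Pure := by
  constructor
  · intro h U
    rw [← app_flat_iff, Scheme.Hom.app_eq_appLE]
    exact HasRingHomProperty.appLE (P := @Flat) (f := I.subschemeι) h U
      ⟨I.subschemeι ⁻¹ᵁ U.1, (hA U).preimage I.subschemeι⟩ le_rfl
  · intro h
    rw [HasRingHomProperty.iff_appLE (P := @Flat)]
    intro U V e
    have h1 : (I.subschemeι.app U).hom.Flat := (app_flat_iff I U).mpr (h U)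
    have h2 := flat_res V.2 ((hA U).preimage I.subschemeι) e
    have := RingHom.Flat.comp h1 h2
    rw [← CommRingCat.hom_comp] at this
    exact this

end Groth.Agent.H5.Pure
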