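import Mathlib
import Groth.Agent.Lib.Helper5.Pure.C

open CategoryTheory AlgebraicGeometry TopologicalSpace

namespace Groth.Agent.H5.Pure

universe u

variable {X : Scheme.{u}}

/-- Pure ideal sheaves with the same support agree. -/
theorem eq_of_support_eq (I J : X.IdealSheafData) (hI : ∀ U : X.affineOpens, (I.ideal U).Pure)
    (hJ : ∀ U : X.affineOpens, (J.ideal U).Pure) (h : I.support = J.support) : I = J := by
  apply Scheme.IdealSheafData.ext
  funext U
  haveI := hI U
  haveI := hJ U
  rw [← Ideal.zeroLocus_inj_of_pure, ← (hA U).fromSpec_preimage_zeroLocus,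
    ← (hA U).fromSpec_preimage_zeroLocus]
  have e : ∀ K : X.IdealSheafData, (hA U).fromSpec ⁻¹' X.zeroLocus (U := U.1) (K.ideal U) =
      (hA U).fromSpec ⁻¹' (K.support : Set X) := by
    intro K
    ext p
    have hp : (hA U).fromSpec p ∈ U.1 := by
      have : (hA U).fromSpec p ∈ Set.range (hA U).fromSpec := ⟨p, rfl⟩
      rwa [(hA U).range_fromSpec] at this
    exact (Scheme.IdealSheafData.mem_support_iff_of_mem hp).symm
  rw [e I, e J, h]

/-- Sections of a pure ideal pull back to zero along maps landing in the support. -/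
theorem le_ker_of_range_subset (I : X.IdealSheafData)
    (hI : ∀ U : X.affineOpens, (I.ideal U).Pure) {Y : Scheme.{u}} (g : Y ⟶ X)
    (hg : Set.range g ⊆ (I.support : Set X)) : I ≤ g.ker := by
  rw [Scheme.Hom.ker, Scheme.IdealSheafData.le_ofIdeals_iff]
  intro U x hx
  haveI := hI U
  obtain ⟨y, hy, hxy⟩ := Ideal.exists_eq_mul_of_pure hx
  rw [RingHom.mem_ker]
  set a := (g.app U).hom x with ha
  set b := (g.app U).hom y with hb
  have hab : a = a * b := by rw [ha, hb, ← map_mul, ← hxy]
  have hunit : IsUnit (1 - b) := by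
    apply Y.toRingedSpace.isUnit_of_isUnit_germ (g ⁻¹ᵁ U.1)
    intro z hz
    have hz' : z ∉ Y.basicOpen b := by
      rw [hb]
      change z ∉ Y.basicOpen (g.app U y)
      rw [← Scheme.preimage_basicOpen]
      intro hzb
      have hgz : g z ∈ (I.support : Set X) := hg ⟨z, rfl⟩
      have hgzU : g z ∈ U.1 := hz
      rw [SetLike.mem_coe, Scheme.IdealSheafData.mem_support_iff_of_mem hgzU,
        Scheme.mem_zeroLocus_iff] at hgz
      exact hgz y hy hzb
    rw [Scheme.mem_basicOpen _ _ _ hz] at hz'
    rw [map_sub, map_one]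
    exact IsLocalRing.isUnit_one_sub_self_of_mem_nonunits _ hz'
  have h0 : a * (1 - b) = 0 := by rw [mul_sub, mul_one, ← hab, sub_self]
  exact (hunit.mul_left_eq_zero).mp h0

end Groth.Agent.H5.Pure
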