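import Mathlib
import Groth.Agent.Lib.Helper5.Pure.D

open CategoryTheory AlgebraicGeometry TopologicalSpace

namespace Groth.Agent.H5.Pure

universe u

theorem main (X : Scheme.{u}) :
    Set.BijOn (fun I : X.IdealSheafData => I.support) {I : X.IdealSheafData | Flat I.subschemeι}
        {Z : TopologicalSpace.Closeds ↑X | StableUnderGeneralization (Z : Set ↑X)} ∧
      ∀ I : X.IdealSheafData, Flat I.subschemeι → ∀ (Y : Scheme.{u}) (g : Y ⟶ X),
        Set.range g.base ⊆ (I.support : Set ↑X) → ∃ g' : Y ⟶ I.subscheme, g' ≫ I.subschemeι = g := by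
  refine ⟨⟨?_, ?_, ?_⟩, ?_⟩
  · intro I hI
    simp only [Set.mem_ofPred_eq] at hI ⊢
    rw [← I.range_subschemeι]
    exact (Flat.generalizingMap (f := I.subschemeι)).stableUnderGeneralization_range
  · intro I hI J hJ h
    simp only [Set.mem_ofPred_eq] at hI hJ
    exact eq_of_support_eq I J ((flat_subschemeι_iff I).mp hI) ((flat_subschemeι_iff J).mp hJ) h
  · intro Z hZ
    simp only [Set.mem_ofPred_eq] at hZ
    refine ⟨pureIdealSheaf (Z : Set X) Z.isClosed hZ, ?_, ?_⟩
    · simp only [Set.mem_ofPred_eq]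
      rw [flat_subschemeι_iff]
      exact fun U => pureIdeal_pure (Z : Set X) Z.isClosed hZ U
    · apply TopologicalSpace.Closeds.ext
      exact coe_support_pureIdealSheaf (Z : Set X) Z.isClosed hZ
  · intro I hI Y g hg
    have hle : I.subschemeι.ker ≤ g.ker := by
      rw [I.ker_subschemeι]
      exact le_ker_of_range_subset I ((flat_subschemeι_iff I).mp hI) g hg
    exact ⟨IsClosedImmersion.lift I.subschemeι g hle, IsClosedImmersion.lift_fac _ _ _⟩

end Groth.Agent.H5.Pure
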